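import Groth.Agent.IndSmoothLib.Basic
import Groth.Agent.IndEtLib.Sys
import Groth.Agent.S12237
import Groth.Agent.S0539
import Groth.Agent.S2748
import Groth.Prelude.Def_Pi1
import Mathlib.RingTheory.Etale.Descent
import Mathlib.RingTheory.Finiteness.Descent
import Mathlib.RingTheory.Etale.Field
import Mathlib.RingTheory.Algebraic.Integral
import Mathlib.AlgebraicGeometry.Pullbacks

/-!
# Étale algebras over the fraction field split by a strict henselization
-/

set_option autoImplicit false
set_option backward.isDefEq.respectTransparency false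
set_option backward.isDefEq.respectTransparency.types false
set_option linter.style.haveILetI false
set_option maxHeartbeats 1000000

universe u

open TensorProduct

namespace Groth.Agent.ShDesc24

theorem indSmooth_of_isIndEtale {A B : Type u} [CommRing A] [CommRing B] [Algebra A B]
    (h : EtPBC.IsIndEtale A B) : Smoothing.IndSmooth A B := by
  obtain ⟨J, _, _, D, c, hc, het, ⟨i⟩⟩ := h
  let S : IndEtLib.Sys (CommRingCat.of A) := ⟨J, D, c, hc⟩
  let e : S.pt ≃ₐ[A] B := AlgEquiv.ofRingEquiv
    (f := ((CategoryTheory.Under.forget _).mapIso i).commRingCatIsoToRingEquiv)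
    (fun a => congrArg (fun φ : CommRingCat.of A ⟶ CommRingCat.of B => φ.hom a)
      (CategoryTheory.Under.w i.hom))
  intro P _ _ hP f
  obtain ⟨j, ψ, hψ⟩ := S.exists_lift P (e.symm.toAlgHom.comp f)
  haveI : Algebra.Etale A (S.A j) := het j
  refine ⟨S.A j, inferInstance, inferInstance, inferInstance, ψ, e.toAlgHom.comp (S.ι j), ?_⟩
  rw [AlgHom.comp_assoc, hψ, ← AlgHom.comp_assoc]
  refine AlgHom.ext fun x => ?_
  exact e.apply_symm_apply (f x)

theorem isAlgebraic_of_isIndEtale {A R : Type u} [CommRing A] [IsDomain A] [CommRing R] [IsDomain R] [Algebra A R]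
    (hinj : Function.Injective (algebraMap A R)) (h : EtPBC.IsIndEtale A R) (x : R) : IsAlgebraic A x := by
  obtain ⟨J, _, _, D, c, hc, het, ⟨i⟩⟩ := h
  let S : IndEtLib.Sys (CommRingCat.of A) := ⟨J, D, c, hc⟩
  let e : S.pt ≃ₐ[A] R := AlgEquiv.ofRingEquiv
    (f := ((CategoryTheory.Under.forget _).mapIso i).commRingCatIsoToRingEquiv)
    (fun a => congrArg (fun φ : CommRingCat.of A ⟶ CommRingCat.of R => φ.hom a)
      (CategoryTheory.Under.w i.hom))
  obtain ⟨j, y, hy⟩ := S.surj (e.symm x)
  haveI : Algebra.Etale A (S.A j) := het j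
  let K := FractionRing A
  let L := FractionRing R
  haveI : FaithfulSMul A R := (faithfulSMul_iff_algebraMap_injective A R).2 hinj
  have hinjL : Function.Injective (algebraMap A L) := by
    rw [IsScalarTower.algebraMap_eq A R L]
    exact (IsFractionRing.injective R L).comp hinj
  letI : Algebra K L := (IsFractionRing.lift (A := A) (K := K) hinjL).toAlgebra
  haveI : IsScalarTower A K L :=
    IsScalarTower.of_algebraMap_eq fun a => (IsFractionRing.lift_algebraMap (K := K) hinjL a).symm
  let g : K ⊗[A] S.A j →ₐ[K] L := Algebra.TensorProduct.lift (Algebra.ofId K L)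
    ((IsScalarTower.toAlgHom A R L).comp (e.toAlgHom.comp (S.ι j))) (fun _ _ => .all _ _)
  haveI : Module.Finite K (K ⊗[A] S.A j) := Algebra.FormallyUnramified.finite_of_free K _
  have h1 : IsIntegral K (algebraMap R L x) := by
    have h2 : g (1 ⊗ₜ y) = algebraMap R L x := by
      simp only [g, Algebra.TensorProduct.lift_tmul, map_one, one_mul]
      exact congrArg (algebraMap R L) ((congrArg e hy).trans (e.apply_symm_apply x))
    exact h2 ▸ (Algebra.IsIntegral.isIntegral (R := K) ((1 : K) ⊗ₜ[A] y)).map g
  exact (isAlgebraic_algebraMap_iff (IsFractionRing.injective R L)).1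
    ((IsFractionRing.isAlgebraic_iff A K L).2 h1.isAlgebraic)

theorem mem_range_piAlgebraMap_of_isIntegral {R L ι : Type u} [CommRing R] [IsDomain R] [IsIntegrallyClosed R]
    [Field L] [Algebra R L] [IsFractionRing R L] {f : ι → L} (hf : IsIntegral R f) :
    ∃ g : ι → R, ∀ i, algebraMap R L (g i) = f i := by
  choose g hg using fun i => IsIntegrallyClosed.isIntegral_iff.1 (hf.map (Pi.evalAlgHom R (fun _ => L) i))
  exact ⟨g, hg⟩

/-- If an étale algebra over the fraction field becomes split over the fraction field of a faithfully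
flat ind-étale normal extension, the integral closure is finite étale. -/
theorem finite_etale_integralClosure (A R K L : Type u) [CommRing A] [IsDomain A] [CommRing R] [IsDomain R]
    [IsIntegrallyClosed R] [Algebra A R] [Module.FaithfullyFlat A R] (hR : EtPBC.IsIndEtale A R)
    [Field K] [Field L] [Algebra A K] [IsFractionRing A K] [Algebra R L] [IsFractionRing R L]
    [Algebra K L] [Algebra A L] [IsScalarTower A K L] [IsScalarTower A R L]
    (C₀ : Type u) [CommRing C₀] [Algebra K C₀] [Algebra A C₀] [IsScalarTower A K C₀]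
    {ι : Type u} [Finite ι] (e : L ⊗[K] C₀ ≃ₐ[L] (ι → L)) :
    Module.Finite A (integralClosure A C₀) ∧ Algebra.Etale A (integralClosure A C₀) := by
  haveI : FaithfulSMul A R := inferInstance
  have hinj : Function.Injective (algebraMap A R) := FaithfulSMul.algebraMap_injective A R
  have hS := indSmooth_of_isIndEtale hR
  have hbij := IndSmoothLib.toIntegralClosure_bijective hS C₀
  -- every element of `L` has a denominator in `A`
  have hden : ∀ l : L, ∃ (r : R) (a : A), a ≠ 0 ∧ l * algebraMap A L a = algebraMap R L r := by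
    intro l
    obtain ⟨r, s, hs, rfl⟩ := IsFractionRing.div_surjective (A := R) l
    obtain ⟨a, ha, r', hr'⟩ := (isAlgebraic_of_isIndEtale hinj hR s).exists_nonzero_dvd hs
    refine ⟨r * r', a, ha, ?_⟩
    rw [IsScalarTower.algebraMap_apply A R L, hr', map_mul, map_mul, div_mul_eq_mul_div, ← mul_assoc,
      mul_comm (algebraMap R L r) (algebraMap R L s), mul_assoc, mul_div_assoc]
    rw [mul_div_cancel₀]
    exact IsFractionRing.to_map_ne_zero_of_mem_nonZeroDivisors hs
  -- the comparison with the split algebra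
  let χ : R ⊗[A] C₀ →ₐ[R] (ι → L) := Algebra.TensorProduct.lift (Algebra.ofId R (ι → L))
    ((e.toAlgHom.restrictScalars A).comp (Algebra.TensorProduct.includeRight.restrictScalars A))
    (fun _ _ => .all _ _)
  haveI : Module.Flat A C₀ := by
    haveI : Module.Flat A K := IsLocalization.flat K (nonZeroDivisors A)
    exact Module.Flat.trans A K C₀
  let ψ : R ⊗[A] C₀ →ₗ[A] L ⊗[A] C₀ := (IsScalarTower.toAlgHom A R L).toLinearMap.rTensor C₀
  have hψinj : Function.Injective ψ :=
    Module.Flat.rTensor_preserves_injective_linearMap _ (IsFractionRing.injective R L)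
  have hψsurj : Function.Surjective ψ := by
    intro z
    induction z with
    | zero => exact ⟨0, map_zero _⟩
    | add x y hx hy =>
      obtain ⟨x', rfl⟩ := hx
      obtain ⟨y', rfl⟩ := hy
      exact ⟨x' + y', map_add _ _ _⟩
    | tmul l c =>
      obtain ⟨r, a, ha, hl⟩ := hden l
      refine ⟨r ⊗ₜ ((algebraMap A K a)⁻¹ • c), ?_⟩
      show algebraMap R L r ⊗ₜ[A] _ = _
      have haK : algebraMap A K a ≠ 0 := fun h =>
        ha (IsFractionRing.injective A K (h.trans (map_zero _).symm))
      rw [← hl, mul_comm, ← Algebra.smul_def, TensorProduct.smul_tmul, ← algebraMap_smul K a]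
      show l ⊗ₜ[A] (algebraMap A K a • (algebraMap A K a)⁻¹ • c) = _
      rw [smul_inv_smul₀ haK]
  let m : L ⊗[A] C₀ →ₗ[A] L ⊗[K] C₀ := TensorProduct.mapOfCompatibleSMul K A A L C₀
  haveI := IsLocalization.tensorProduct_compatibleSMul (nonZeroDivisors A) K L C₀
  have hχ : ∀ z, χ z = e ((TensorProduct.equivOfCompatibleSMul K A A L C₀) (ψ z)) := by
    intro z
    induction z with
    | zero => simp
    | add x y hx hy => rw [map_add, map_add, map_add, map_add, hx, hy]
    | tmul r c =>
      show χ (r ⊗ₜ c) = e (algebraMap R L r ⊗ₜ[K] c)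
      simp only [χ, Algebra.TensorProduct.lift_tmul]
      rw [show algebraMap R L r ⊗ₜ[K] c = algebraMap R L r • ((1 : L) ⊗ₜ[K] c) by
        rw [TensorProduct.smul_tmul', smul_eq_mul, mul_one], map_smul]
      rfl
  have hχbij : Function.Bijective χ := by
    rw [show (χ : R ⊗[A] C₀ → ι → L) = fun z => e ((TensorProduct.equivOfCompatibleSMul K A A L C₀) (ψ z))
      from funext hχ]
    exact e.bijective.comp ((TensorProduct.equivOfCompatibleSMul K A A L C₀).bijective.comp
      ⟨hψinj, hψsurj⟩)
  let φ : R ⊗[A] integralClosure A C₀ →ₐ[R] (ι → L) :=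
    χ.comp ((integralClosure R (R ⊗[A] C₀)).val.comp (TensorProduct.toIntegralClosure A R C₀))
  have hφinj : Function.Injective φ := hχbij.1.comp (Subtype.val_injective.comp hbij.1)
  have hrange : φ.range = (AlgHom.pi (R := R) (A := fun _ : ι => L)
      (fun i => (Algebra.ofId R L).comp (Pi.evalAlgHom R (fun _ : ι => R) i))).range := by
    refine le_antisymm ?_ ?_
    · rintro _ ⟨x, rfl⟩
      obtain ⟨g, hg⟩ := mem_range_piAlgebraMap_of_isIntegral (R := R) (L := L)
        ((TensorProduct.toIntegralClosure A R C₀ x).2.map χ)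
      exact ⟨g, funext hg⟩
    · rintro _ ⟨g, rfl⟩
      obtain ⟨z, hz⟩ := hχbij.2 fun i => algebraMap R L (g i)
      have hint : IsIntegral R z := by
        rw [← isIntegral_algHom_iff χ hχbij.1, hz]
        exact (Algebra.IsIntegral.isIntegral (R := R) g).map (AlgHom.pi (R := R) (A := fun _ : ι => L)
          (fun i => (Algebra.ofId R L).comp (Pi.evalAlgHom R (fun _ : ι => R) i)))
      obtain ⟨x, hx⟩ := hbij.2 ⟨z, hint⟩
      exact ⟨x, (congrArg (fun w : integralClosure R (R ⊗[A] C₀) => χ (w : R ⊗[A] C₀)) hx).trans hz⟩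
  have hπinj : Function.Injective (AlgHom.pi (R := R) (A := fun _ : ι => L)
      (fun i => (Algebra.ofId R L).comp (Pi.evalAlgHom R (fun _ : ι => R) i))) := fun g g' h =>
    funext fun i => IsFractionRing.injective R L (congrFun h i)
  let E : R ⊗[A] integralClosure A C₀ ≃ₐ[R] (ι → R) :=
    (AlgEquiv.ofInjective φ hφinj).trans
      ((Subalgebra.equivOfEq _ _ hrange).trans (AlgEquiv.ofInjective _ hπinj).symm)
  haveI : Module.Finite R (R ⊗[A] integralClosure A C₀) := Module.Finite.equiv E.toLinearEquiv.symm
  haveI : Algebra.Etale R (R ⊗[A] integralClosure A C₀) := Algebra.Etale.of_equiv E.symm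
  exact ⟨Module.Finite.of_finite_tensorProduct_of_faithfullyFlat R,
    Algebra.Etale.of_etale_tensorProduct_of_faithfullyFlat R⟩

/-- Every element of an algebra integral over the fraction field is a fraction of an integral one. -/
theorem isLocalization_integralClosure (A K C₀ : Type u) [CommRing A] [IsDomain A] [Field K] [Algebra A K]
    [IsFractionRing A K] [CommRing C₀] [Algebra K C₀] [Algebra A C₀] [IsScalarTower A K C₀]
    [Algebra.IsIntegral K C₀] :
    IsLocalization (Algebra.algebraMapSubmonoid (integralClosure A C₀) (nonZeroDivisors A)) C₀ := by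
  constructor
  constructor
  · rintro ⟨_, a, ha, rfl⟩
    show IsUnit (algebraMap A C₀ a)
    rw [IsScalarTower.algebraMap_apply A K C₀]
    exact (IsUnit.mk0 _ (IsFractionRing.to_map_ne_zero_of_mem_nonZeroDivisors ha)).map _
  · intro z
    obtain ⟨⟨a, ha⟩, hint⟩ := IsIntegral.exists_multiple_integral_of_isLocalization (nonZeroDivisors A) z
      (Algebra.IsIntegral.isIntegral (R := K) z)
    refine ⟨⟨⟨_, hint⟩, ⟨_, a, ha, rfl⟩⟩, ?_⟩
    show z * algebraMap A C₀ a = a • z
    rw [Algebra.smul_def, mul_comm]
  · intro x y h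
    exact ⟨1, by rw [Subtype.ext h]⟩

end Groth.Agent.ShDesc24
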